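import Mathlib

/-!
# S1022 (no simple group of order `459648 = 2^7·3^3·7·19`), file F1: arithmetic

`notes/T3_small_orders_helper2.md`, §1.  Everything here is elementary number theory:

* `o459_sylow_cands` : the divisors of `24192 = 2^7·3^3·7` that are `≡ 1 mod 19` are `1, 96, 1008`;
* `o459_no_fform` : `n = 5` is not of the Brauer–Reynolds form for `p = 19` (third alternative of S4700);
* `o459_dvd_ppow` : a prime power `q^a ∣ 459648`, `q ≠ 19`, has no divisor `≡ 1 mod 19` except `1`;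
* `o459_divX`, `o459_deg_count` : the degree equation of the principal `19`-block.
-/

set_option autoImplicit false

namespace Cfsg.Agent.O459

/-- divisors of `32` -/
theorem o459_div32 (a : ℕ) (ha : a ∣ 32) : a = 1 ∨ a = 2 ∨ a = 4 ∨ a = 8 ∨ a = 16 ∨ a = 32 := by
  have h1 : a ≤ 32 := Nat.le_of_dvd (by norm_num) ha
  interval_cases a <;> omega

/-- divisors of `128` -/
theorem o459_div128 (a : ℕ) (ha : a ∣ 128) :
    a = 1 ∨ a = 2 ∨ a = 4 ∨ a = 8 ∨ a = 16 ∨ a = 32 ∨ a = 64 ∨ a = 128 := by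
  have h1 : a ≤ 128 := Nat.le_of_dvd (by norm_num) ha
  interval_cases a <;> omega

/-- divisors of `189 = 3^3·7` -/
theorem o459_div189 (a : ℕ) (ha : a ∣ 189) :
    a = 1 ∨ a = 3 ∨ a = 7 ∨ a = 9 ∨ a = 21 ∨ a = 27 ∨ a = 63 ∨ a = 189 := by
  have h1 : a ≤ 189 := Nat.le_of_dvd (by norm_num) ha
  interval_cases a <;> omega

/-- the divisors of `24192 = 2^7·3^3·7` that are `≡ 1 mod 19` -/
theorem o459_sylow_cands (d : ℕ) (hd : d ∣ 24192) (h1 : d % 19 = 1) :
    d = 1 ∨ d = 96 ∨ d = 1008 := by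
  have h : d ∣ 128 * 189 := by norm_num; exact hd
  obtain ⟨d1, d2, hd1, hd2, rfl⟩ := exists_dvd_and_dvd_of_dvd_mul h
  rcases o459_div128 d1 hd1 with h | h | h | h | h | h | h | h <;>
  rcases o459_div189 d2 hd2 with h' | h' | h' | h' | h' | h' | h' | h' <;>
  subst h h' <;> omega

/-- `n = 5` is not of the form `(h u p + u² + u + h)/(u + 1)` for `p = 19` -/
theorem o459_no_fform (h u : ℕ) (hh : 0 < h) (hu : 0 < u) :
    5 * (u + 1) ≠ h * u * 19 + u ^ 2 + u + h := by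
  intro heq
  have h1 : u ≤ h * u := Nat.le_mul_of_pos_left u hh
  have h2 : u ≤ u ^ 2 := by
    rw [pow_two]
    exact Nat.le_mul_of_pos_left u hu
  omega

/-- a divisor `≡ 1 mod 19` of a prime power `q ^ a ∣ 459648`, `q ≠ 19`, is `1` -/
theorem o459_dvd_ppow (q a d : ℕ) (hq : q.Prime) (hq19 : q ≠ 19) (hqa : q ^ a ∣ 459648)
    (hd : d ∣ q ^ a) (h1 : d % 19 = 1) : d = 1 := by
  obtain ⟨j, hja, rfl⟩ := (Nat.dvd_prime_pow hq).mp hd
  rcases Nat.eq_zero_or_pos j with hj | hj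
  · rw [hj, pow_zero]
  exfalso
  have hqj : q ^ j ∣ 459648 := (pow_dvd_pow q hja).trans hqa
  have hqd : q ∣ 459648 := (dvd_pow_self q (Nat.pos_iff_ne_zero.mp hj)).trans hqj
  have hfac : (459648 : ℕ) = 2 ^ 7 * 3 ^ 3 * 7 * 19 := by norm_num
  rw [hfac] at hqd
  have hq' : q = 2 ∨ q = 3 ∨ q = 7 := by
    rcases (Nat.Prime.dvd_mul hq).mp hqd with h | h
    · rcases (Nat.Prime.dvd_mul hq).mp h with h | h
      · rcases (Nat.Prime.dvd_mul hq).mp h with h | h
        · left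
          exact (Nat.prime_dvd_prime_iff_eq hq Nat.prime_two).mp (hq.dvd_of_dvd_pow h)
        · right; left
          exact (Nat.prime_dvd_prime_iff_eq hq Nat.prime_three).mp (hq.dvd_of_dvd_pow h)
      · right; right
        exact (Nat.prime_dvd_prime_iff_eq hq (by norm_num)).mp h
    · exact absurd ((Nat.prime_dvd_prime_iff_eq hq (by norm_num)).mp h) hq19
  rcases hq' with rfl | rfl | rfl
  · have hj7 : j ≤ 7 := by
      by_contra hcon
      have h8 : 8 ≤ j := by omega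
      have : 2 ^ 8 ∣ 459648 := (pow_dvd_pow 2 h8).trans hqj
      norm_num at this
    interval_cases j <;> norm_num at h1
  · have hj3 : j ≤ 3 := by
      by_contra hcon
      have h4 : 4 ≤ j := by omega
      have : 3 ^ 4 ∣ 459648 := (pow_dvd_pow 3 h4).trans hqj
      norm_num at this
    interval_cases j <;> norm_num at h1
  · have hj1 : j ≤ 1 := by
      by_contra hcon
      have h2 : 2 ≤ j := by omega
      have : 7 ^ 2 ∣ 459648 := (pow_dvd_pow 7 h2).trans hqj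
      norm_num at this
    interval_cases j
    norm_num at h1

/-- divisors of `6048 = 32 · 189` -/
theorem o459_div6048 (x : ℕ) (hx : x ∣ 6048) :
    ∃ x1 x2 : ℕ, x = x1 * x2 ∧
      (x1 = 1 ∨ x1 = 2 ∨ x1 = 4 ∨ x1 = 8 ∨ x1 = 16 ∨ x1 = 32) ∧
      (x2 = 1 ∨ x2 = 3 ∨ x2 = 7 ∨ x2 = 9 ∨ x2 = 21 ∨ x2 = 27 ∨ x2 = 63 ∨ x2 = 189) := by
  have h : x ∣ 32 * 189 := by norm_num; exact hx
  obtain ⟨x1, x2, hx1, hx2, rfl⟩ := exists_dvd_and_dvd_of_dvd_mul h
  exact ⟨x1, x2, rfl, o459_div32 x1 hx1, o459_div189 x2 hx2⟩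

/-- `1008 f ∣ 6048` for `f ∈ {2, 3, 6}` -/
theorem o459_dvd6048 (f x : ℕ) (hf : f = 2 ∨ f = 3 ∨ f = 6) (hx : x ∣ 1008 * f) : x ∣ 6048 := by
  rcases hf with rfl | rfl | rfl
  · exact hx.trans ⟨3, by norm_num⟩
  · exact hx.trans ⟨2, by norm_num⟩
  · exact hx.trans ⟨1, by norm_num⟩

/-- the candidates for a nontrivial degree in `X` (any `f ∈ {2,3,6}`): the divisors `≥ 2` of `6048`
that are `≡ ±1 mod 19` -/
theorem o459_divX (f x : ℕ) (hf : f = 2 ∨ f = 3 ∨ f = 6) (hx : x ∣ 1008 * f) (h2 : 2 ≤ x)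
    (s : ℤ) (hs : s = 1 ∨ s = -1) (hmod : (x : ℤ) ≡ s [ZMOD 19]) :
    (s = 1 ∧ (x = 96 ∨ x = 1008)) ∨ (s = -1 ∧ (x = 18 ∨ x = 56 ∨ x = 189)) := by
  obtain ⟨x1, x2, rfl, h1, h2'⟩ := o459_div6048 x (o459_dvd6048 f x hf hx)
  rcases hs with rfl | rfl
  · left
    refine ⟨rfl, ?_⟩
    have hm : (((x1 * x2 : ℕ) : ℤ)) % 19 = 1 % 19 := hmod
    have hm' : (x1 * x2) % 19 = 1 := by omega
    rcases h1 with h | h | h | h | h | h <;>
    rcases h2' with h' | h' | h' | h' | h' | h' | h' | h' <;>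
    subst h h' <;> omega
  · right
    refine ⟨rfl, ?_⟩
    have hm : (((x1 * x2 : ℕ) : ℤ)) % 19 = (-1) % 19 := hmod
    have hm' : (x1 * x2) % 19 = 18 := by omega
    rcases h1 with h | h | h | h | h | h <;>
    rcases h2' with h' | h' | h' | h' | h' | h' | h' | h' <;>
    subst h h' <;> omega

/-- the candidates for the exceptional degree: the divisors of `1008 f` that are `≡ ± f mod 19` -/
theorem o459_divY (f y : ℕ) (hf : f = 2 ∨ f = 3 ∨ f = 6) (hy : y ∣ 1008 * f)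
    (ε : ℤ) (hε : ε = 1 ∨ ε = -1) (hmod : (y : ℤ) ≡ ε * (f : ℤ) [ZMOD 19]) :
    (f = 2 ∧ ((ε = 1 ∧ (y = 2 ∨ y = 21 ∨ y = 2016)) ∨ (ε = -1 ∧ (y = 36 ∨ y = 112)))) ∨
    (f = 3 ∧ ((ε = 1 ∧ (y = 3 ∨ y = 3024)) ∨ (ε = -1 ∧ (y = 16 ∨ y = 54 ∨ y = 168)))) ∨
    (f = 6 ∧ ((ε = 1 ∧ (y = 6 ∨ y = 63 ∨ y = 6048)) ∨
      (ε = -1 ∧ (y = 32 ∨ y = 108 ∨ y = 336)))) := by
  obtain ⟨y1, y2, rfl, h1, h2⟩ := o459_div6048 y (o459_dvd6048 f y hf hy)
  have hm : (((y1 * y2 : ℕ) : ℤ)) % 19 = (ε * (f : ℤ)) % 19 := hmod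
  rcases hf with rfl | rfl | rfl
  · left
    refine ⟨rfl, ?_⟩
    rcases hε with rfl | rfl
    · left
      refine ⟨rfl, ?_⟩
      have hm' : (y1 * y2) % 19 = 2 := by omega
      rcases h1 with h | h | h | h | h | h <;>
      rcases h2 with h' | h' | h' | h' | h' | h' | h' | h' <;>
      subst h h' <;> omega
    · right
      refine ⟨rfl, ?_⟩
      have hm' : (y1 * y2) % 19 = 17 := by omega
      rcases h1 with h | h | h | h | h | h <;>
      rcases h2 with h' | h' | h' | h' | h' | h' | h' | h' <;>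
      subst h h' <;> omega
  · right; left
    refine ⟨rfl, ?_⟩
    rcases hε with rfl | rfl
    · left
      refine ⟨rfl, ?_⟩
      have hm' : (y1 * y2) % 19 = 3 := by omega
      rcases h1 with h | h | h | h | h | h <;>
      rcases h2 with h' | h' | h' | h' | h' | h' | h' | h' <;>
      subst h h' <;> omega
    · right
      refine ⟨rfl, ?_⟩
      have hm' : (y1 * y2) % 19 = 16 := by omega
      rcases h1 with h | h | h | h | h | h <;>
      rcases h2 with h' | h' | h' | h' | h' | h' | h' | h' <;>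
      subst h h' <;> omega
  · right; right
    refine ⟨rfl, ?_⟩
    rcases hε with rfl | rfl
    · left
      refine ⟨rfl, ?_⟩
      have hm' : (y1 * y2) % 19 = 6 := by omega
      rcases h1 with h | h | h | h | h | h <;>
      rcases h2 with h' | h' | h' | h' | h' | h' | h' | h' <;>
      subst h h' <;> omega
    · right
      refine ⟨rfl, ?_⟩
      have hm' : (y1 * y2) % 19 = 13 := by omega
      rcases h1 with h | h | h | h | h | h <;>
      rcases h2 with h' | h' | h' | h' | h' | h' | h' | h' <;>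
      subst h h' <;> omega

/-- **the degree equation in count form**: `a, b, c, d, e` = number of nontrivial members of `X` of
degree `96, 1008, 18, 56, 189`; only `f = 6` is possible, and then at most one member has the odd
degree `189` -/
theorem o459_deg_count (f : ℕ) (hf : f = 2 ∨ f = 3 ∨ f = 6) (a b c d e : ℕ)
    (hsum : a + b + c + d + e + 1 = f) (y : ℕ) (ε : ℤ) (hε : ε = 1 ∨ ε = -1)
    (hy : y ∣ 1008 * f) (hymod : (y : ℤ) ≡ ε * (f : ℤ) [ZMOD 19])
    (heq : ε * (y : ℤ) = 1 + 96 * (a : ℤ) + 1008 * (b : ℤ) - 18 * (c : ℤ) - 56 * (d : ℤ)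
      - 189 * (e : ℤ)) : f = 6 ∧ e ≤ 1 := by
  rcases o459_divY f y hf hy ε hε hymod with ⟨rfl, h⟩ | ⟨rfl, h⟩ | ⟨rfl, h⟩
  · exfalso
    rcases h with ⟨rfl, rfl | rfl | rfl⟩ | ⟨rfl, rfl | rfl⟩ <;> omega
  · exfalso
    rcases h with ⟨rfl, rfl | rfl⟩ | ⟨rfl, rfl | rfl | rfl⟩ <;> omega
  · refine ⟨rfl, ?_⟩
    rcases h with ⟨rfl, rfl | rfl | rfl⟩ | ⟨rfl, rfl | rfl | rfl⟩ <;> omega

end Cfsg.Agent.O459
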