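import Mathlib

/-!
# S1022 (no simple group of order 459648), file F5 (helper1), part 1: the arithmetic of `B₀(19)`

Pure arithmetic (no groups): the divisors of `6048 = 6 · 1008` in the residue classes `±1`, `±f`
modulo `19`, and the count form of the degree equation of the principal `19`-block.
See `notes/T3_small_orders_helper2.md`, section 1, step (4).
-/

set_option autoImplicit false

namespace Cfsg.Agent.O459

theorem o459_ba_div32 (a : ℕ) (ha : a ∣ 32) :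
    a = 1 ∨ a = 2 ∨ a = 4 ∨ a = 8 ∨ a = 16 ∨ a = 32 := by
  have h1 : a ≤ 32 := Nat.le_of_dvd (by norm_num) ha
  interval_cases a <;> omega

theorem o459_ba_div189 (b : ℕ) (hb : b ∣ 189) :
    b = 1 ∨ b = 3 ∨ b = 7 ∨ b = 9 ∨ b = 21 ∨ b = 27 ∨ b = 63 ∨ b = 189 := by
  have h1 : b ≤ 189 := Nat.le_of_dvd (by norm_num) hb
  interval_cases b <;> omega

/-- the degrees of the members of `X`: divisors of `6048` congruent to `±1` modulo `19`,
in signed form -/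
theorem o459_ba_X (d : ℕ) (ε : ℤ) (hε : ε = 1 ∨ ε = -1) (hd : d ∣ 6048)
    (hc : (19 : ℤ) ∣ ε - d) :
    ε * d = 1 ∨ ε * d = 96 ∨ ε * d = 1008 ∨ ε * d = -18 ∨ ε * d = -56 ∨ ε * d = -189 := by
  obtain ⟨a, b, ha, hb, rfl⟩ := (Nat.dvd_mul).mp (show d ∣ 32 * 189 from hd)
  rcases o459_ba_div32 a ha with h | h | h | h | h | h <;>
  rcases o459_ba_div189 b hb with h' | h' | h' | h' | h' | h' | h' | h' <;>
  rcases hε with e | e <;> subst h h' e <;> omega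

/-- the degree of the members of `Y`: divisors of `1008 f` congruent to `±f` modulo `19`,
in signed form -/
theorem o459_ba_Y (f y : ℕ) (ε : ℤ) (hf : f = 2 ∨ f = 3 ∨ f = 6) (hε : ε = 1 ∨ ε = -1)
    (hy : y ∣ 1008 * f) (hc : (19 : ℤ) ∣ ε * f - y) :
    (f = 2 ∧ (ε * y = 2 ∨ ε * y = 21 ∨ ε * y = 2016 ∨ ε * y = -36 ∨ ε * y = -112)) ∨
    (f = 3 ∧ (ε * y = 3 ∨ ε * y = 3024 ∨ ε * y = -16 ∨ ε * y = -54 ∨ ε * y = -168)) ∨
    (f = 6 ∧ (ε * y = 6 ∨ ε * y = 63 ∨ ε * y = 6048 ∨ ε * y = -32 ∨ ε * y = -108 ∨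
      ε * y = -336)) := by
  have hy' : y ∣ 32 * 189 := by
    apply dvd_trans hy
    rcases hf with h | h | h <;> subst h <;> norm_num
  obtain ⟨a, b, ha, hb, rfl⟩ := (Nat.dvd_mul).mp hy'
  rcases o459_ba_div32 a ha with h | h | h | h | h | h <;>
  rcases o459_ba_div189 b hb with h' | h' | h' | h' | h' | h' | h' | h' <;>
  rcases hε with e | e <;> rcases hf with h'' | h'' | h'' <;> subst h h' e h'' <;> omega

/-- the count form of the degree equation -/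
theorem o459_ba_count (f c1 a b c d e : ℕ) (t : ℤ) (hc1 : c1 = 1)
    (hsum : c1 + a + b + c + d + e = f)
    (hrel : t = (c1 : ℤ) * 1 + (a : ℤ) * 96 + (b : ℤ) * 1008 + (c : ℤ) * (-18) + (d : ℤ) * (-56) +
      (e : ℤ) * (-189))
    (ht : (f = 2 ∧ (t = 2 ∨ t = 21 ∨ t = 2016 ∨ t = -36 ∨ t = -112)) ∨
      (f = 3 ∧ (t = 3 ∨ t = 3024 ∨ t = -16 ∨ t = -54 ∨ t = -168)) ∨
      (f = 6 ∧ (t = 6 ∨ t = 63 ∨ t = 6048 ∨ t = -32 ∨ t = -108 ∨ t = -336))) :
    f = 6 ∧ e ≤ 1 := by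
  subst hc1
  rcases ht with ⟨hf, h | h | h | h | h⟩ | ⟨hf, h | h | h | h | h⟩ | ⟨hf, h | h | h | h | h | h⟩ <;>
    subst hf h <;> omega

end Cfsg.Agent.O459
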