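import Mathlib
import Cfsg.Agent.S4441
import Cfsg.Agent.BR.RedV
import Cfsg.Agent.BR.RedX
import Cfsg.Agent.BR.RedK
import Cfsg.Agent.O459.BlockArith

/-!
# S1022 (no simple group of order 459648), file F5 (helper1): the principal `19`-block

`G` perfect with a Sylow `19`-subgroup `P` of order `19`, `n_19 = 1008`, `f = |N(P) : C(P)|` a
divisor of `24`.  By `S4441` the principal block is `X ⊔ Y`; the degrees divide `1008 f`
(`br_redx_degree_dvd`, `br_redv_dvd_Y`), are `≡ ±1` resp. `≡ ±f` modulo `19`, and the signed sum of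
the degrees vanishes.  Hence `f = 6`, and at least four members of `X` have even degree; each of
them is constant `= ±1` on the elements `x y`, `x ∈ P ∖ 1`, `y ∈ C(P)` of order prime to `19`.
See `notes/T3_small_orders_helper2.md`, section 1, step (4).
-/

set_option autoImplicit false
set_option linter.style.haveILetI false

namespace Cfsg.Agent.O459

open Cfsg Cfsg.Agent.Helper6 Cfsg.Agent.BR

universe u

variable {G : Type u} [Group G]

set_option maxHeartbeats 3200000 in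
/-- **F5, core form** (`f ∣ 24` as a hypothesis) -/
theorem o459_block_core [Finite G] (hperf : commutator G = ⊤) (P : Sylow 19 G)
    (hP : Nat.card (P : Subgroup G) = 19) (hn : Nat.card (Sylow 19 G) = 1008) (f : ℕ)
    (hf : (Subgroup.centralizer ((P : Subgroup G) : Set G)).relIndex
      (Subgroup.normalizer ((P : Subgroup G) : Set G)) = f) (hf24 : f ∣ 24) :
    f = 6 ∧ ∃ (E : Finset (Cfsg.IrrCharacter G)) (εX : Cfsg.IrrCharacter G → ℤ), 4 ≤ E.card ∧
      ∀ χ ∈ E, Even (Cfsg.charDegree (χ : G → ℂ)) ∧ (εX χ = 1 ∨ εX χ = -1) ∧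
        ∀ x : G, x ∈ (P : Subgroup G) → x ≠ 1 → ∀ y : G,
          y ∈ Subgroup.centralizer ((P : Subgroup G) : Set G) → ¬ 19 ∣ orderOf y →
          (χ : G → ℂ) (x * y) = (εX χ : ℂ) := by
  classical
  haveI : Fact (Nat.Prime 19) := ⟨by norm_num⟩
  haveI : Fintype G := Fintype.ofFinite G
  haveI : Finite (Cfsg.IrrCharacter G) := irr_finite
  obtain ⟨M, hM⟩ := exists_isPModular 19 (by norm_num)
  have hP1 : (P : Subgroup G) ≠ ⊥ := by
    intro h
    rw [h, Subgroup.card_bot] at hP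
    omega
  have hf1 : f ≠ 1 := by
    intro h1
    rw [h1, Subgroup.relIndex_eq_one] at hf
    exact hP1 (br_redK_transfer hperf 19 P hf)
  obtain ⟨J, iF, -, -, -, hJ, -⟩ := Cfsg.Agent.D1.d1_valp_main (M := M) 19 hM P hP f hf
  have hf236 : f = 2 ∨ f = 3 ∨ f = 6 := by
    have h1 : f ∣ 18 := ⟨Fintype.card J, by rw [mul_comm]; exact hJ.symm⟩
    have h2 : f ∣ Nat.gcd 18 24 := Nat.dvd_gcd h1 hf24
    have h3 : f ∣ 6 := by
      have : Nat.gcd 18 24 = 6 := by norm_num
      rwa [this] at h2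
    have h4 : f ≤ 6 := Nat.le_of_dvd (by norm_num) h3
    interval_cases f <;> omega
  have hcJ : 3 ≤ Fintype.card J := by
    rcases hf236 with h | h | h <;> rw [h] at hJ <;> omega
  obtain ⟨X, Y, hB, hdisj, hcX, hcY, εX, ε, hX, hε, hYdeg, hYreg, hrel⟩ :=
    Cfsg.Agent.S4441.result 19 M hM (by norm_num) P hP f hf
  have hp1 : ¬ 19 ∣ orderOf (1 : G) := by
    rw [orderOf_one]
    norm_num
  have hXval : ∀ χ ∈ X, ∀ x : G, x ∈ (P : Subgroup G) → x ≠ 1 →
      (χ : G → ℂ) x = (εX χ : ℂ) := by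
    intro χ hχ x hx hx1
    have := (hX χ hχ).2.2 x hx hx1 1 (one_mem _) hp1
    rwa [mul_one] at this
  have hdvdX : ∀ χ ∈ X, Cfsg.charDegree (χ : G → ℂ) ∣ 6048 := by
    intro χ hχ
    have h1 := br_redx_degree_dvd 19 P hP χ (εX χ) (hX χ hχ).1 (hXval χ hχ)
    rw [hf, hn] at h1
    apply dvd_trans h1
    rcases hf236 with h | h | h <;> rw [h] <;> norm_num
  have hdvdY : ∀ θ ∈ Y, Cfsg.charDegree (θ : G → ℂ) ∣ 1008 * f := by
    intro θ hθ
    have h1 := br_redv_dvd_Y 19 M hM P hP X Y hB hdisj εX ε hε hXval hYreg hrel θ hθ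
    rwa [hf, hn, mul_comm] at h1
  -- a member of `Y`
  have hcY3 : 3 ≤ Nat.card Y := by
    rw [hcY]
    have h18 : (19 - 1) / f = Fintype.card J := by
      have hfpos : 0 < f := by rcases hf236 with h | h | h <;> omega
      rw [← hJ, Nat.mul_div_cancel _ hfpos]
    rw [h18]
    exact hcJ
  haveI : Nonempty Y := by
    rcases isEmpty_or_nonempty Y with he | hne'
    · rw [Nat.card_of_isEmpty] at hcY3
      omega
    · exact hne'
  obtain ⟨⟨θ₀, hθ₀⟩⟩ := (inferInstance : Nonempty Y)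
  -- degree `1` means trivial
  have hdeg1 : ∀ χ : Cfsg.IrrCharacter G, Cfsg.charDegree (χ : G → ℂ) = 1 → χ = trivIrr G := by
    intro χ h1
    apply br_redb_eq_triv hperf
    rw [(br_redb_degree χ).2, h1, Nat.cast_one]
  -- the trivial character lies in `X`
  have htrivX : trivIrr G ∈ X := by
    have htriv : trivIrr G ∈ X ∪ Y := by
      rw [← hB]
      exact trivIrr_mem_principalBlock hM.2.1
    rcases htriv with ht | ht
    · exact ht
    · exfalso
      have h1 := hYdeg (trivIrr G) ht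
      rw [br_redb_charDegree_triv] at h1
      have h2 := Int.ModEq.dvd h1
      rcases hε with e | e <;> rcases hf236 with h | h | h <;> rw [e, h] at h2 <;>
        norm_num at h2
  obtain ⟨y, hy⟩ : ∃ y : ℕ, y = Cfsg.charDegree (θ₀ : G → ℂ) := ⟨_, rfl⟩
  -- the signed degrees
  obtain ⟨s, hs⟩ : ∃ s : Cfsg.IrrCharacter G → ℤ,
      s = fun χ => εX χ * (Cfsg.charDegree (χ : G → ℂ) : ℤ) := ⟨_, rfl⟩
  have hsdef : ∀ χ, s χ = εX χ * (Cfsg.charDegree (χ : G → ℂ) : ℤ) := fun χ => by rw [hs]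
  obtain ⟨Xf, hXf⟩ : ∃ Xf : Finset (Cfsg.IrrCharacter G), Xf = (Set.toFinite X).toFinset :=
    ⟨_, rfl⟩
  have hmemXf : ∀ ξ, ξ ∈ Xf ↔ ξ ∈ X := fun ξ => by rw [hXf, Set.Finite.mem_toFinset]
  have hXfcard : Xf.card = f := by
    rw [← hcX, ← Nat.card_congr (Equiv.subtypeEquivRight hmemXf), Nat.card_eq_fintype_card,
      Fintype.card_coe]
  have hrelZ : ε * (y : ℤ) = ∑ χ ∈ Xf, s χ := by
    have h1 := hrel θ₀ hθ₀ 1 hp1
    rw [finsum_mem_eq_finite_toFinset_sum _ (Set.toFinite X), ← hXf, (br_redb_degree θ₀).2,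
      ← hy] at h1
    rw [Finset.sum_congr rfl (fun χ _ => by rw [(br_redb_degree χ).2])] at h1
    rw [Finset.sum_congr rfl (fun χ _ => hsdef χ)]
    exact_mod_cast h1
  obtain ⟨V, hV⟩ : ∃ V : Finset ℤ, V = {1, 96, 1008, -18, -56, -189} := ⟨_, rfl⟩
  have hmaps : ∀ χ ∈ Xf, s χ ∈ V := by
    intro χ hχ
    rw [hmemXf] at hχ
    have h1 := o459_ba_X (Cfsg.charDegree (χ : G → ℂ)) (εX χ) (hX χ hχ).1 (hdvdX χ hχ)
      (Int.ModEq.dvd (hX χ hχ).2.1)
    rw [hsdef, hV]
    simp only [Finset.mem_insert, Finset.mem_singleton]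
    exact h1
  have hcard : Xf.card = ∑ v ∈ V, (Xf.filter (fun χ => s χ = v)).card :=
    Finset.card_eq_sum_card_fiberwise hmaps
  have hsum : ∑ χ ∈ Xf, s χ = ∑ v ∈ V, ((Xf.filter (fun χ => s χ = v)).card : ℤ) * v := by
    rw [← Finset.sum_fiberwise_of_maps_to hmaps s]
    apply Finset.sum_congr rfl
    intro v _
    rw [Finset.sum_congr rfl (fun χ hχ => (Finset.mem_filter.mp hχ).2), Finset.sum_const,
      nsmul_eq_mul]
  rw [hV, Finset.sum_insert (by decide), Finset.sum_insert (by decide),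
    Finset.sum_insert (by decide), Finset.sum_insert (by decide), Finset.sum_insert (by decide),
    Finset.sum_singleton] at hcard hsum
  -- the fibre over `1`
  have hfib1 : Xf.filter (fun χ => s χ = 1) = {trivIrr G} := by
    ext χ
    rw [Finset.mem_filter, Finset.mem_singleton, hmemXf]
    constructor
    · rintro ⟨hχ, h1⟩
      apply hdeg1
      rw [hsdef] at h1
      have hpos := (br_redb_degree χ).1
      rcases (hX χ hχ).1 with e | e <;> rw [e] at h1 <;> omega
    · rintro rfl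
      refine ⟨htrivX, ?_⟩
      rw [hsdef]
      have h1 := (hX _ htrivX).2.1
      rw [br_redb_charDegree_triv] at h1 ⊢
      have h2 := Int.ModEq.dvd h1
      rcases (hX _ htrivX).1 with e | e
      · rw [e]
        norm_num
      · exfalso
        rw [e] at h2
        norm_num at h2
  have hc1 : (Xf.filter (fun χ => s χ = 1)).card = 1 := by
    rw [hfib1, Finset.card_singleton]
  -- the arithmetic
  have hYc := o459_ba_Y f y ε hf236 hε (hy ▸ hdvdY θ₀ hθ₀)
    (by
      have h1 := hYdeg θ₀ hθ₀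
      rw [← hy] at h1
      exact Int.ModEq.dvd h1)
  rw [hXfcard] at hcard
  obtain ⟨hf6, he1⟩ := o459_ba_count f (Xf.filter (fun χ => s χ = 1)).card
    (Xf.filter (fun χ => s χ = 96)).card (Xf.filter (fun χ => s χ = 1008)).card
    (Xf.filter (fun χ => s χ = -18)).card (Xf.filter (fun χ => s χ = -56)).card
    (Xf.filter (fun χ => s χ = -189)).card (ε * (y : ℤ)) hc1 (by omega)
    (by rw [hrelZ, hsum]; ring) hYc
  refine ⟨hf6, ?_⟩
  -- the members of `X` of even degree
  obtain ⟨E, hE⟩ : ∃ E : Finset (Cfsg.IrrCharacter G),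
      E = Xf.filter (fun χ => ¬ (s χ = 1 ∨ s χ = -189)) := ⟨_, rfl⟩
  have hO : (Xf.filter (fun χ => s χ = 1 ∨ s χ = -189)).card ≤ 2 := by
    rw [Finset.filter_or]
    calc (Xf.filter (fun χ => s χ = 1) ∪ Xf.filter (fun χ => s χ = -189)).card
        ≤ (Xf.filter (fun χ => s χ = 1)).card + (Xf.filter (fun χ => s χ = -189)).card :=
          Finset.card_union_le _ _
      _ ≤ 2 := by omega
  have hEc : 4 ≤ E.card := by
    have h1 := Finset.card_filter_add_card_filter_not (s := Xf)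
      (fun χ => s χ = 1 ∨ s χ = -189)
    rw [← hE, hXfcard, hf6] at h1
    omega
  refine ⟨E, εX, hEc, fun χ hχ => ?_⟩
  rw [hE, Finset.mem_filter, hmemXf] at hχ
  obtain ⟨hχX, hχs⟩ := hχ
  refine ⟨?_, (hX χ hχX).1, (hX χ hχX).2.2⟩
  have h1 := hmaps χ ((hmemXf χ).2 hχX)
  rw [hV] at h1
  simp only [Finset.mem_insert, Finset.mem_singleton] at h1
  rw [not_or] at hχs
  rw [hsdef] at h1 hχs
  have h2 : ∃ k : ℕ, Cfsg.charDegree (χ : G → ℂ) = 2 * k := by
    rcases (hX χ hχX).1 with e | e <;> rw [e] at h1 hχs <;>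
      exact ⟨Cfsg.charDegree (χ : G → ℂ) / 2, by omega⟩
  obtain ⟨k, hk⟩ := h2
  exact ⟨k, by omega⟩

/-- `|C(P)| · f = 456` and `19 ∣ |C(P)|` -/
theorem o459_block_NC [Finite G] (P : Sylow 19 G)
    (hP : Nat.card (P : Subgroup G) = 19)
    (hNC : Nat.card (Subgroup.normalizer ((P : Subgroup G) : Set G)) = 456) :
    ∃ c : ℕ, Nat.card (Subgroup.centralizer ((P : Subgroup G) : Set G)) = 19 * c ∧
      c * (Subgroup.centralizer ((P : Subgroup G) : Set G)).relIndex
        (Subgroup.normalizer ((P : Subgroup G) : Set G)) = 24 := by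
  haveI : Fact (Nat.Prime 19) := ⟨by norm_num⟩
  have hCN : Subgroup.centralizer ((P : Subgroup G) : Set G) ≤
      Subgroup.normalizer ((P : Subgroup G) : Set G) := Subgroup.centralizer_le_normalizer _
  have h2 := Subgroup.relIndex_mul_relIndex ⊥ (Subgroup.centralizer ((P : Subgroup G) : Set G))
    (Subgroup.normalizer ((P : Subgroup G) : Set G)) bot_le hCN
  rw [Subgroup.relIndex_bot_left, Subgroup.relIndex_bot_left, hNC] at h2
  -- `P ≤ C(P)`
  have hPC : (P : Subgroup G) ≤ Subgroup.centralizer ((P : Subgroup G) : Set G) := by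
    obtain ⟨x, hxP, -, -, hpow, hcent⟩ := br_redb_generator 19 (P : Subgroup G) hP
    rw [← hcent]
    intro q hq
    obtain ⟨k, hk⟩ := hpow q hq
    rw [Subgroup.mem_centralizer_iff]
    intro z hz
    rw [Set.mem_singleton_iff] at hz
    rw [hz, ← hk]
    exact ((Commute.refl x).zpow_right k).eq
  have h3 : 19 ∣ Nat.card ↥(Subgroup.centralizer ((P : Subgroup G) : Set G)) := by
    have h := Subgroup.card_dvd_of_le hPC
    rwa [hP] at h
  obtain ⟨c, hc⟩ := h3
  refine ⟨c, hc, ?_⟩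
  rw [hc] at h2
  have h4 : 19 * (c * (Subgroup.centralizer ((P : Subgroup G) : Set G)).relIndex
      (Subgroup.normalizer ((P : Subgroup G) : Set G))) = 19 * 24 := by
    rw [← mul_assoc]
    exact h2
  exact Nat.eq_of_mul_eq_mul_left (by norm_num) h4

/-- **F5** (header frozen in `notes/S1022_headers.md`): the principal `19`-block of a perfect group
with `1008` Sylow `19`-subgroups of order `19` whose normalisers have order `456` -/
theorem o459_block {G : Type u} [Group G] [Finite G] (hperf : commutator G = ⊤)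
    (P : Sylow 19 G) (hP : Nat.card (P : Subgroup G) = 19)
    (hn : Nat.card (Sylow 19 G) = 1008)
    (hNC : Nat.card (Subgroup.normalizer ((P : Subgroup G) : Set G)) = 456) :
    Nat.card (Subgroup.centralizer ((P : Subgroup G) : Set G)) = 76 ∧
    ∃ S : Finset (Cfsg.IrrCharacter G), 4 ≤ S.card ∧ ∀ χ ∈ S,
      Even (Cfsg.charDegree (χ : G → ℂ)) ∧ ∃ ε : ℤ, (ε = 1 ∨ ε = -1) ∧
        ∀ x : G, x ∈ (P : Subgroup G) → x ≠ 1 → ∀ y : G,
          y ∈ Subgroup.centralizer ((P : Subgroup G) : Set G) → ¬ 19 ∣ orderOf y →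
          (χ : G → ℂ) (x * y) = (ε : ℂ) := by
  obtain ⟨c, hc, hcf⟩ := o459_block_NC P hP hNC
  obtain ⟨hf6, E, εX, hE4, hE⟩ := o459_block_core hperf P hP hn _ rfl ⟨c, by rw [mul_comm]; exact hcf.symm⟩
  refine ⟨?_, E, hE4, fun χ hχ => ⟨(hE χ hχ).1, εX χ, (hE χ hχ).2.1, (hE χ hχ).2.2⟩⟩
  rw [hf6] at hcf
  rw [hc]
  omega

/-- the same from `|G| = 459648` -/
theorem o459_block_of_card [Finite G] (hG : Nat.card G = 459648) (hperf : commutator G = ⊤)
    (P : Sylow 19 G) (hP : Nat.card (P : Subgroup G) = 19)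
    (hn : Nat.card (Sylow 19 G) = 1008) :
    Nat.card (Subgroup.centralizer ((P : Subgroup G) : Set G)) = 76 ∧
    ∃ S : Finset (Cfsg.IrrCharacter G), 4 ≤ S.card ∧ ∀ χ ∈ S,
      Even (Cfsg.charDegree (χ : G → ℂ)) ∧ ∃ ε : ℤ, (ε = 1 ∨ ε = -1) ∧
        ∀ x : G, x ∈ (P : Subgroup G) → x ≠ 1 → ∀ y : G,
          y ∈ Subgroup.centralizer ((P : Subgroup G) : Set G) → ¬ 19 ∣ orderOf y →
          (χ : G → ℂ) (x * y) = (ε : ℂ) := by
  haveI : Fact (Nat.Prime 19) := ⟨by norm_num⟩
  have hN : Nat.card ↥(Subgroup.normalizer ((P : Subgroup G) : Set G)) = 456 := by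
    have h0 : Nat.card (Sylow 19 G) =
        (Subgroup.normalizer ((P : Subgroup G) : Set G)).index :=
      Sylow.card_eq_index_normalizer P
    have h1 := Subgroup.card_mul_index (Subgroup.normalizer ((P : Subgroup G) : Set G))
    rw [← h0, hn, hG] at h1
    omega
  exact o459_block hperf P hP hn hN

end Cfsg.Agent.O459
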