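import Mathlib
import Cfsg.Agent.Helper2.SmallOrder

/-!
# S1022 (no simple group of order 459648), file F3: the centraliser of an involution of `C_G(P)` (helper5)

`G` simple of order `459648 = 2^7·3^3·7·19` with `1008` Sylow `19`-subgroups, `P` one of them, `v` an
involution centralising `P`.  Then `|C_G(v)| ≤ 456`.

`H := C_G(v) ⊇ P`; `n_19(H)` divides `24192` and is `≡ 1 (mod 19)`, so it is `1`, `96` or `1008`
(hypothesis `hcands`, file F1).  `96` is impossible (hypothesis `hL` = Lemma L, file F2).  If it is `1008`,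
then `38 ∣ |N_H(P)|` gives `|H| ≥ 38304`, so `|G : H| ≤ 12`; but `H ≠ G` (else `⟨v⟩` is a normal subgroup of
order `2`) and `G` simple give `|G| ∣ |G : H|!`, so `19 ≤ |G : H|`.  Hence `n_19(H) = 1`, `P ⊴ H`,
`H ≤ N_G(P)` of order `459648 / 1008 = 456`.
-/

set_option autoImplicit false
set_option linter.style.haveILetI false
set_option linter.unusedSectionVars false
set_option linter.unusedVariables false

namespace Cfsg.Agent.O459

open Cfsg.Agent.Helper2.SmallOrder Cfsg.Agent.Helper2.SylowExact

universe u

/-- **S1022, step (7)**: `|C_G(v)| ≤ 456`. -/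
theorem o459_cent {G : Type u} [Group G] [Finite G] [IsSimpleGroup G]
    (hcard : Nat.card G = 459648) (P : Sylow 19 G) (hn : Nat.card (Sylow 19 G) = 1008)
    (v : G) (hv : orderOf v = 2)
    (hvP : v ∈ Subgroup.centralizer ((P : Subgroup G) : Set G))
    (hcands : ∀ d : ℕ, d ∣ 24192 → d % 19 = 1 → d = 1 ∨ d = 96 ∨ d = 1008)
    (hL : ∀ (H : Type u) [Group H] [Finite H], Nat.card H ∣ 459648 →
      Nat.card (Sylow 19 H) ≠ 96) :
    Nat.card (Subgroup.centralizer ({v} : Set G)) ≤ 456 := by
  classical
  haveI : Fact (Nat.Prime 19) := ⟨by norm_num⟩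
  have hG : Nat.card G = 19 * 24192 := by rw [hcard]
  have h19 : ¬ 19 ∣ 24192 := by norm_num
  have hPcard : Nat.card (P : Subgroup G) = 19 := card_sylow_of_exact hG h19 P
  obtain ⟨H, hHdef⟩ : ∃ H : Subgroup G, H = Subgroup.centralizer ({v} : Set G) := ⟨_, rfl⟩
  rw [← hHdef]
  have hmemH : ∀ g : G, g ∈ H ↔ v * g = g * v := by
    intro g
    rw [hHdef, Subgroup.mem_centralizer_iff]
    constructor
    · intro h
      exact h v (Set.mem_singleton v)
    · intro h y hy
      rw [Set.mem_singleton_iff] at hy
      rw [hy]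
      exact h
  have hvH : v ∈ H := (hmemH v).2 rfl
  have hPH : (P : Subgroup G) ≤ H := by
    intro x hx
    rw [hmemH]
    rw [Subgroup.mem_centralizer_iff] at hvP
    exact (hvP x hx).symm
  -- `H ≠ ⊤`
  have hHtop : H ≠ ⊤ := by
    intro htop
    have hcen : ∀ g : G, v * g = g * v := fun g => (hmemH g).1 (by rw [htop]; exact Subgroup.mem_top g)
    have hnorm : (Subgroup.zpowers v).Normal := by
      constructor
      intro n hn g
      obtain ⟨k, rfl⟩ := Subgroup.mem_zpowers_iff.mp hn
      have hc : Commute g v := (hcen g).symm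
      have hck : g * v ^ k = v ^ k * g := (hc.zpow_right k).eq
      rw [hck, mul_inv_cancel_right]
      exact Subgroup.zpow_mem_zpowers v k
    have hc2 : Nat.card (Subgroup.zpowers v) = 2 := by rw [Nat.card_zpowers, hv]
    rcases hnorm.eq_bot_or_eq_top with h | h
    · rw [h, Subgroup.card_bot] at hc2
      omega
    · rw [h, Subgroup.card_top, hcard] at hc2
      omega
  -- `19 ≤ |G : H|`
  have hidx19 : 19 ≤ H.index := by
    have h1 := card_dvd_factorial_index H hHtop
    have h2 : 19 ∣ Nat.card G := ⟨24192, hG⟩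
    exact (Nat.Prime.dvd_factorial (by norm_num)).mp (h2.trans h1)
  have hHidx : Nat.card H * H.index = 459648 := by
    rw [Subgroup.card_mul_index, hcard]
  -- the Sylow subgroup of `H`
  obtain ⟨P', hP'def⟩ : ∃ P' : Sylow 19 H, P' = P.subtype hPH := ⟨_, rfl⟩
  have hP'coe : (P' : Subgroup H) = (P : Subgroup G).subgroupOf H := by
    rw [hP'def]
    exact Sylow.coe_subtype P hPH
  have hP'card : Nat.card (P' : Subgroup H) = 19 := by
    rw [hP'coe, Nat.card_congr (Subgroup.subgroupOfEquivOfLe hPH).toEquiv, hPcard]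
  have hHdvd : Nat.card H ∣ 459648 := by
    rw [← hcard]
    exact Subgroup.card_subgroup_dvd_card H
  have hmod : Nat.card (Sylow 19 H) % 19 = 1 := by
    have := card_sylow_modEq_one 19 H
    exact this
  have hdvd : Nat.card (Sylow 19 H) ∣ 24192 := by
    have h1 := Sylow.card_dvd_index P'
    have h2 : (P' : Subgroup H).index * 19 ∣ 24192 * 19 := by
      have h3 : Nat.card (P' : Subgroup H) * (P' : Subgroup H).index = Nat.card H :=
        Subgroup.card_mul_index _
      rw [hP'card] at h3
      have h4 : (P' : Subgroup H).index * 19 = Nat.card H := by rw [← h3]; ring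
      rw [h4]
      exact hHdvd
    exact h1.trans (Nat.dvd_of_mul_dvd_mul_right (by norm_num) h2)
  have hNH := card_normalizer_mul_card_sylow P'
  rcases hcands _ hdvd hmod with h1 | h96 | h1008
  · -- `n_19(H) = 1`: `P ⊴ H`
    haveI : Subsingleton (Sylow 19 H) := by
      haveI : Finite (Sylow 19 H) := inferInstance
      exact (Nat.card_eq_one_iff_unique.mp h1).1
    have hnorm : (P' : Subgroup H).Normal := Sylow.normal_of_subsingleton P'
    rw [hP'coe] at hnorm
    have hle : H ≤ Subgroup.normalizer ((P : Subgroup G) : Set G) := by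
      haveI := hnorm
      exact Subgroup.le_normalizer_of_normal_subgroupOf hPH
    have h2 := Subgroup.card_le_of_le hle
    have h3 := card_normalizer_mul_card_sylow P
    rw [hn, hcard] at h3
    omega
  · exact absurd h96 (hL H hHdvd)
  · -- `n_19(H) = 1008`
    exfalso
    rw [h1008] at hNH
    -- `38 ∣ |N_H(P')|`
    have hd19 : 19 ∣ Nat.card (Subgroup.normalizer ((P' : Subgroup H) : Set H)) := by
      have h0 := Subgroup.card_dvd_of_le (Subgroup.le_normalizer (H := (P' : Subgroup H)))
      rwa [hP'card] at h0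
    have hd2 : 2 ∣ Nat.card (Subgroup.normalizer ((P' : Subgroup H) : Set H)) := by
      have hvN : (⟨v, hvH⟩ : H) ∈ Subgroup.normalizer ((P' : Subgroup H) : Set H) := by
        rw [Subgroup.mem_normalizer_iff]
        intro h
        have hc : (⟨v, hvH⟩ : H) * h * (⟨v, hvH⟩ : H)⁻¹ = h := by
          have h1 : (⟨v, hvH⟩ : H) * h = h * ⟨v, hvH⟩ := by
            apply Subtype.ext
            exact (hmemH (h : G)).1 h.2
          rw [h1, mul_inv_cancel_right]
        rw [hc]
      have hle : Subgroup.zpowers (⟨v, hvH⟩ : H) ≤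
          Subgroup.normalizer ((P' : Subgroup H) : Set H) :=
        Subgroup.zpowers_le.mpr hvN
      have h2 := Subgroup.card_dvd_of_le hle
      rwa [Nat.card_zpowers, Subgroup.orderOf_mk, hv] at h2
    have hd38 : 38 ∣ Nat.card (Subgroup.normalizer ((P' : Subgroup H) : Set H)) := by
      have : Nat.Coprime 2 19 := by norm_num
      exact this.mul_dvd_of_dvd_of_dvd hd2 hd19
    obtain ⟨k, hk⟩ := hd38
    rw [hk] at hNH
    have hk0 : 0 < k := by
      rcases Nat.eq_zero_or_pos k with h0 | h0
      · rw [h0] at hNH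
        rw [← hNH] at hHidx
        omega
      · exact h0
    have h12 : 38304 * (H.index * k) = 459648 := by
      rw [← hHidx, ← hNH]
      ring
    have h3 : H.index * k = 12 := by omega
    have h4 : H.index ≤ H.index * k := Nat.le_mul_of_pos_right _ hk0
    omega

end Cfsg.Agent.O459
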