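import Mathlib
import Cfsg.Agent.S4700
import Cfsg.Agent.S0025
import Cfsg.Agent.N22.Quot
import Cfsg.Agent.BR.RedK

set_option autoImplicit false

/-!
S1022 (no simple group of order 459648), file F2: Lemma L = "S4700 for non-perfect groups".
A finite group `H` with a Sylow `p`-subgroup of order `p`, `1 + n p` Sylow `p`-subgroups where `n` is not of
Brauer–Reynolds F-form, order not divisible by `|PSL(2,p)|`, `p` not a Fermat prime, and such that no prime
power `q ^ j ∣ |H|` (`q ≠ p`, `j ≥ 1`) is `≡ 1 mod p`, does not exist.  Corollary: `|H| ∣ 459648 ⇒ n_19(H) ≠ 96`.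
-/

namespace Cfsg.Agent.O459

open Subgroup

universe u

/-- fixed points of conjugation by an element `x` with `x ^ p = 1` on a subgroup it normalises -/
theorem o459_syl_fix {H : Type u} [Group H] [Finite H] {p : ℕ} [Fact p.Prime] (x : H) (hx : x ^ p = 1)
    (Q : Subgroup H) (hxQ : x ∈ normalizer (Q : Set H)) :
    Nat.card Q ≡ Nat.card (Q ⊓ centralizer ({x} : Set H) : Subgroup H) [MOD p] := by
  classical
  have : Fintype Q := Fintype.ofFinite Q
  have hmem : ∀ y : H, y ∈ Q → x * y * x⁻¹ ∈ Q := fun y hy => (mem_normalizer_iff.mp hxQ y).mp hy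
  have hmem' : ∀ y : H, y ∈ Q → x⁻¹ * y * x ∈ Q := by
    intro y hy
    have h1 := (mem_normalizer_iff.mp hxQ (x⁻¹ * y * x)).mpr
    apply h1
    have : x * (x⁻¹ * y * x) * x⁻¹ = y := by group
    rw [this]; exact hy
  let σ : Equiv.Perm Q :=
    { toFun := fun y => ⟨x * y.1 * x⁻¹, hmem y.1 y.2⟩
      invFun := fun y => ⟨x⁻¹ * y.1 * x, hmem' y.1 y.2⟩
      left_inv := by intro y; apply Subtype.ext; simp only; group
      right_inv := by intro y; apply Subtype.ext; simp only; group }
  have hσpow : ∀ (k : ℕ) (y : Q), ((σ ^ k) y : H) = x ^ k * y.1 * (x ^ k)⁻¹ := by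
    intro k
    induction k with
    | zero => intro y; simp
    | succ k ih =>
      intro y
      rw [pow_succ', Equiv.Perm.mul_apply]
      show x * ((σ ^ k) y : H) * x⁻¹ = _
      rw [ih y, pow_succ']
      group
  have hσ : σ ^ p ^ 1 = 1 := by
    rw [pow_one]
    ext y
    rw [hσpow p y, hx]
    simp
  have h1 := Equiv.Perm.card_compl_support_modEq (p := p) (n := 1) hσ
  have h2 : (σ.supportᶜ).card = Nat.card (Q ⊓ centralizer ({x} : Set H) : Subgroup H) := by
    rw [← Nat.card_eq_finsetCard]
    apply Nat.card_congr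
    refine
      { toFun := fun y => ⟨y.1.1, ?_⟩
        invFun := fun z => ⟨⟨z.1, z.2.1⟩, ?_⟩
        left_inv := fun y => rfl
        right_inv := fun z => rfl }
    · have hy := y.2
      rw [Finset.mem_compl, Equiv.Perm.mem_support, not_not] at hy
      have hy' : x * y.1.1 * x⁻¹ = y.1.1 := congrArg Subtype.val hy
      refine ⟨y.1.2, ?_⟩
      show (y.1.1 : H) ∈ centralizer ({x} : Set H)
      rw [mem_centralizer_iff]
      intro h hh
      rw [Set.mem_singleton_iff] at hh
      subst hh
      calc h * y.1.1 = (h * y.1.1 * h⁻¹) * h := by group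
        _ = y.1.1 * h := by rw [hy']
    · rw [Finset.mem_compl, Equiv.Perm.mem_support, not_not]
      apply Subtype.ext
      show x * z.1 * x⁻¹ = z.1
      have hz : (z.1 : H) ∈ centralizer ({x} : Set H) := z.2.2
      rw [mem_centralizer_iff] at hz
      have := hz x (Set.mem_singleton x)
      rw [this]; group
  rw [h2] at h1
  have hQc : Nat.card Q = Fintype.card Q := Nat.card_eq_fintype_card
  rw [hQc]
  exact h1.symm

/-- an element of order dividing `p` centralises every `q`-subgroup it normalises, if no non-trivial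
`q`-power dividing the order of that subgroup is `≡ 1 mod p` -/
theorem o459_syl_centralizes {H : Type u} [Group H] [Finite H] {p q : ℕ} [Fact p.Prime] (hq : q.Prime)
    (hqp : q ≠ p) (x : H) (hx : x ^ p = 1) (Q : Subgroup H) (hQ : IsPGroup q Q)
    (hxQ : x ∈ normalizer (Q : Set H))
    (hmod : ∀ j : ℕ, 0 < j → q ^ j ∣ Nat.card Q → ¬ q ^ j ≡ 1 [MOD p]) :
    Q ≤ centralizer ({x} : Set H) := by
  have hpp : p.Prime := Fact.out
  have : Fact q.Prime := ⟨hq⟩
  obtain ⟨j, hj⟩ := IsPGroup.iff_card.mp hQ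
  have hle : (Q ⊓ centralizer ({x} : Set H) : Subgroup H) ≤ Q := inf_le_left
  have hdvd : Nat.card (Q ⊓ centralizer ({x} : Set H) : Subgroup H) ∣ q ^ j := by
    rw [← hj]; exact Subgroup.card_dvd_of_le hle
  obtain ⟨i, hij, hi⟩ := (Nat.dvd_prime_pow hq).mp hdvd
  have hfix := o459_syl_fix x hx Q hxQ
  rw [hj, hi] at hfix
  have hieq : i = j := by
    by_contra hne
    have hlt : i < j := lt_of_le_of_ne hij hne
    have hsplit : q ^ j = q ^ i * q ^ (j - i) := by
      rw [← pow_add]; congr 1; omega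
    have hcop : Nat.gcd p (q ^ i) = 1 := by
      apply Nat.Coprime.pow_right
      exact (Nat.coprime_primes hpp hq).mpr (Ne.symm hqp)
    have h3 : q ^ i * q ^ (j - i) ≡ q ^ i * 1 [MOD p] := by
      rw [← hsplit, mul_one]; exact hfix
    have h4 : q ^ (j - i) ≡ 1 [MOD p] := Nat.ModEq.cancel_left_of_coprime hcop h3
    refine hmod (j - i) (by omega) ?_ h4
    rw [hj]
    exact pow_dvd_pow q (by omega)
  have hcard : Nat.card (Q ⊓ centralizer ({x} : Set H) : Subgroup H) = Nat.card Q := by
    rw [hi, hj, hieq]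
  have heq : (Q ⊓ centralizer ({x} : Set H) : Subgroup H) = Q :=
    Subgroup.eq_of_le_of_card_ge hle (le_of_eq hcard.symm)
  exact heq ▸ inf_le_right

end Cfsg.Agent.O459
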