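import Mathlib
import Cfsg.Agent.O459.SylA
import Cfsg.Agent.O459.Arith

set_option autoImplicit false

/-!
S1022 (no simple group of order 459648), file F2: Lemma L = "S4700 for non-perfect groups", main part.
-/

namespace Cfsg.Agent.O459

open Subgroup
open scoped Pointwise

universe u

/-- **Lemma L, general form.**  `K := ⟨P^H⟩`; if `K` is perfect, S4700 applies; otherwise `P ∩ K' = 1`, every prime
`q ∣ |K'|` has a `P`-invariant Sylow `q`-subgroup of `K'` (S0025), which `P` centralises by the congruence
hypothesis, so `K'` centralises `P`, hence `P ≤ Z(K)` and `n_p(K) = 1`. -/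
theorem o459_syl_gen {H : Type u} [Group H] [Finite H] {p : ℕ} [Fact p.Prime] (hodd : Odd p)
    (P : Sylow p H) (hP : Nat.card P = p) (n : ℕ) (hn0 : 0 < n)
    (hn : Nat.card (Sylow p H) = 1 + n * p)
    (hF : ∀ h u : ℕ, 0 < h → 0 < u → n * (u + 1) ≠ h * u * p + u ^ 2 + u + h)
    (hpsl : ¬ p * (p ^ 2 - 1) ∣ 2 * Nat.card H)
    (hfermat : ∀ m : ℕ, p ≠ 2 ^ m + 1)
    (hq : ∀ q j : ℕ, q.Prime → q ≠ p → 0 < j → q ^ j ∣ Nat.card H → ¬ q ^ j ≡ 1 [MOD p]) : False := by
  classical
  have hpp : p.Prime := Fact.out
  set K : Subgroup H := normalClosure ((P : Subgroup H) : Set H) with hK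
  have hKn : K.Normal := normalClosure_normal
  have hPK : (P : Subgroup H) ≤ K := le_normalClosure
  have hnK : Nat.card (Sylow p K) = 1 + n * p :=
    (Cfsg.Agent.N22.n22_card_sylow_normal p K P hPK).trans hn
  set PK : Sylow p K := P.subtype hPK with hPKdef
  have hPKcard : Nat.card PK = p := by
    have h1 : ((PK : Subgroup K)) = (P : Subgroup H).subgroupOf K := rfl
    rw [show Nat.card PK = Nat.card ((PK : Subgroup K)) from rfl, h1,
      Nat.card_congr (Subgroup.subgroupOfEquivOfLe hPK).toEquiv]
    exact hP
  by_cases hperf : commutator K = ⊤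
  · -- perfect case: S4700
    rcases Cfsg.Agent.S4700.result hperf p PK hPKcard n hnK with
      ⟨F, _, _, hFc, _, ⟨e⟩⟩ | ⟨m, F, _, _, _, hpm, _, _⟩ | ⟨h, u, hh, hu, heq⟩
    · apply hpsl
      have h1 : Nat.card (K ⧸ Cfsg.pPrimeCore p K) ∣ Nat.card K := Subgroup.card_quotient_dvd_card _
      rw [Nat.card_congr e.toEquiv] at h1
      have h2 : Nat.card K ∣ Nat.card H := Subgroup.card_subgroup_dvd_card K
      have h3 := Cfsg.Agent.BR.br_redK_card_psl_odd (F := F) hFc hodd
      rw [← h3]
      exact Nat.mul_dvd_mul_left 2 (h1.trans h2)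
    · exact hfermat m hpm
    · exact hF h u hh hu heq
  · -- non-perfect case
    set D : Subgroup H := ⁅K, K⁆ with hD
    have hDn : D.Normal := Subgroup.commutator_normal K K
    have hDK : D ≤ K := Subgroup.commutator_le_left K K
    have hPD : ¬ (P : Subgroup H) ≤ D := by
      intro hle
      have hKD : K ≤ D := normalClosure_le_normal hle
      have hKeq : ⁅K, K⁆ = K := le_antisymm hDK hKD
      apply hperf
      rw [commutator_def]
      apply Subgroup.map_injective (Subgroup.subtype_injective K)
      rw [Subgroup.map_commutator]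
      have htop : (⊤ : Subgroup K).map K.subtype = K := by
        rw [← MonoidHom.range_eq_map, Subgroup.range_subtype]
      rw [htop, hKeq]
    -- `P ∩ D = 1`
    have hPDbot : (P : Subgroup H) ⊓ D = ⊥ := by
      have h1 : Nat.card ((P : Subgroup H) ⊓ D : Subgroup H) ∣ p := by
        have h0 := Subgroup.card_dvd_of_le (inf_le_left : ((P : Subgroup H) ⊓ D : Subgroup H) ≤ (P : Subgroup H))
        rwa [show Nat.card (P : Subgroup H) = p from hP] at h0
      rcases (Nat.dvd_prime hpp).mp h1 with h | h
      · exact Subgroup.card_eq_one.mp h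
      · exfalso
        apply hPD
        have h2 : ((P : Subgroup H) ⊓ D : Subgroup H) = (P : Subgroup H) :=
          Subgroup.eq_of_le_of_card_ge inf_le_left (by rw [h, show Nat.card (P : Subgroup H) = p from hP])
        exact h2 ▸ inf_le_right
    -- `p ∤ |D|`
    have hpD : ¬ p ∣ Nat.card D := by
      intro hdvd
      obtain ⟨y, hy⟩ := exists_prime_orderOf_dvd_card' (G := D) p hdvd
      have hyp : IsPGroup p (zpowers (y : H)) := by
        rw [IsPGroup.iff_card, Nat.card_zpowers]
        refine ⟨1, ?_⟩
        rw [Subgroup.orderOf_coe, hy, pow_one]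
      obtain ⟨Q, hQ⟩ := hyp.exists_le_sylow
      obtain ⟨g, hg⟩ := MulAction.exists_smul_eq H Q P
      have hyQ : (y : H) ∈ (Q : Subgroup H) := hQ (mem_zpowers _)
      have hgy : g * (y : H) * g⁻¹ ∈ (P : Subgroup H) := by
        have h0 : MulAut.conj g • (y : H) ∈ MulAut.conj g • (Q : Subgroup H) :=
          Subgroup.smul_mem_pointwise_smul _ _ _ hyQ
        have hPQ : (P : Subgroup H) = MulAut.conj g • (Q : Subgroup H) := by
          rw [← hg, Sylow.smul_def, Sylow.pointwise_smul_def]
        rw [hPQ]
        exact h0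
      have hgyD : g * (y : H) * g⁻¹ ∈ D := hDn.conj_mem _ y.2 g
      have h1 : g * (y : H) * g⁻¹ ∈ ((P : Subgroup H) ⊓ D : Subgroup H) := ⟨hgy, hgyD⟩
      rw [hPDbot, Subgroup.mem_bot] at h1
      have h2 : (y : H) = 1 := by
        have : (y : H) = g⁻¹ * (g * (y : H) * g⁻¹) * g := by group
        rw [this, h1]; group
      have h3 : orderOf (y : H) = p := by rw [Subgroup.orderOf_coe, hy]
      rw [h2, orderOf_one] at h3
      exact hpp.one_lt.ne h3
    have hsolvP : Group.IsSolvable (P : Subgroup H) := by
      have : Group.IsNilpotent (P : Subgroup H) := P.isPGroup'.isNilpotent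
      infer_instance
    have hcopPD : (Nat.card (P : Subgroup H)).Coprime (Nat.card D) := by
      rw [show Nat.card (P : Subgroup H) = p from hP]
      exact (Nat.Prime.coprime_iff_not_dvd hpp).mpr hpD
    -- `D` centralises every element of `P`
    have hDcent : ∀ x ∈ (P : Subgroup H), D ≤ centralizer ({x} : Set H) := by
      intro x hx
      have hxp : x ^ p = 1 := by
        have := pow_card_eq_one' (G := (P : Subgroup H)) (x := ⟨x, hx⟩)
        rw [show Nat.card (P : Subgroup H) = p from hP] at this
        have h2 := congrArg Subtype.val this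
        simpa using h2
      set Cx : Subgroup H := D ⊓ centralizer ({x} : Set H) with hCx
      have hCxle : Cx ≤ D := inf_le_left
      have hD0 : Nat.card D ≠ 0 := Nat.card_pos.ne'
      have hC0 : Nat.card Cx ≠ 0 := Nat.card_pos.ne'
      have hdvd : Nat.card D ∣ Nat.card Cx := by
        rw [← Nat.factorization_prime_le_iff_dvd hD0 hC0]
        intro q hqprime
        rw [← hqprime.pow_dvd_iff_le_factorization hC0]
        by_cases hv : (Nat.card D).factorization q = 0
        · rw [hv, pow_zero]; exact one_dvd _
        · have hqD : q ∣ Nat.card D := Nat.dvd_of_factorization_pos hv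
          have hqp : q ≠ p := fun h => hpD (h ▸ hqD)
          have : Fact q.Prime := ⟨hqprime⟩
          obtain ⟨Q, _, hQn⟩ := Cfsg.Agent.S0025.result (P : Subgroup H) D
            (le_normalizer_of_normal) hcopPD
            (Or.inl hsolvP) q ⊥ bot_le IsPGroup.of_bot le_normalizer_of_normal
          set QH : Subgroup H := (Q : Subgroup D).map D.subtype with hQH
          have hQHcard : Nat.card QH = q ^ (Nat.card D).factorization q := by
            rw [hQH, Subgroup.card_map_of_injective (Subgroup.subtype_injective D)]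
            exact Q.card_eq_multiplicity
          have hQHD : QH ≤ D := Subgroup.map_subtype_le _
          have hQHp : IsPGroup q QH := by
            rw [IsPGroup.iff_card]; exact ⟨_, hQHcard⟩
          have hcen : QH ≤ centralizer ({x} : Set H) := by
            apply o459_syl_centralizes hqprime hqp x hxp QH hQHp (hQn hx)
            intro j hj hjd
            apply hq q j hqprime hqp hj
            exact hjd.trans (Subgroup.card_subgroup_dvd_card QH)
          have hQHle : QH ≤ Cx := le_inf hQHD hcen
          rw [← hQHcard]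
          exact Subgroup.card_dvd_of_le hQHle
      have heq : Cx = D := Subgroup.eq_of_le_of_card_ge hCxle (Nat.le_of_dvd Nat.card_pos hdvd)
      exact heq ▸ inf_le_right
    -- `K` centralises `P`
    have hKcent : ∀ k ∈ K, ∀ x ∈ (P : Subgroup H), k * x * k⁻¹ = x := by
      intro k hk x hx
      have hxp : x ^ p = 1 := by
        have := pow_card_eq_one' (G := (P : Subgroup H)) (x := ⟨x, hx⟩)
        rw [show Nat.card (P : Subgroup H) = p from hP] at this
        have h2 := congrArg Subtype.val this
        simpa using h2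
      set d : H := k * x * k⁻¹ * x⁻¹ with hd
      have hdD : d ∈ D := Subgroup.commutator_mem_commutator hk (hPK hx)
      have hdx : Commute d x := by
        have h1 := hDcent x hx hdD
        rw [mem_centralizer_iff] at h1
        exact (h1 x (Set.mem_singleton x)).symm
      have h2 : (d * x) ^ p = d ^ p * x ^ p := hdx.mul_pow p
      have h3 : d * x = k * x * k⁻¹ := by rw [hd]; group
      have h4 : (k * x * k⁻¹) ^ p = 1 := by rw [conj_pow, hxp]; group
      rw [h3, h4, hxp, mul_one] at h2
      have h5 : orderOf (⟨d, hdD⟩ : D) ∣ p := by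
        apply orderOf_dvd_of_pow_eq_one
        apply Subtype.ext
        simpa using h2.symm
      have h6 : orderOf (⟨d, hdD⟩ : D) ∣ Nat.card D := orderOf_dvd_natCard _
      have h7 : orderOf (⟨d, hdD⟩ : D) = 1 := by
        rcases (Nat.dvd_prime hpp).mp h5 with h | h
        · exact h
        · exact absurd (h ▸ h6) hpD
      have h8 : d = 1 := by
        have := orderOf_eq_one_iff.mp h7
        exact congrArg Subtype.val this
      rw [← h3, h8, one_mul]
    -- hence `P ⊴ K` and `n_p(K) = 1`
    have hPKn : (PK : Subgroup K).Normal := by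
      constructor
      intro y hy k
      have hy' : (y : H) ∈ (P : Subgroup H) := hy
      have h1 := hKcent k.1 k.2 y.1 hy'
      have h2 : k * y * k⁻¹ = y := Subtype.ext (by simpa using h1)
      rw [h2]; exact hy
    have h1 : Nat.card (Sylow p K) = 1 := by
      have h0 := Sylow.card_eq_index_normalizer PK
      have hnorm : normalizer (PK : Set K) = ⊤ := Subgroup.normalizer_eq_top_iff.mpr hPKn
      rw [hnorm, Subgroup.index_top] at h0
      exact h0
    rw [hnK] at h1
    have : 0 < n * p := Nat.mul_pos hn0 hpp.pos
    omega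

/-- **Lemma L.**  A group whose order divides `459648 = 2^7 · 3^3 · 7 · 19` does not have exactly `96` Sylow
`19`-subgroups. -/
theorem o459_syl_ne96 {H : Type u} [Group H] [Finite H] (hH : Nat.card H ∣ 459648) :
    Nat.card (Sylow 19 H) ≠ 96 := by
  intro h96
  have : Fact (Nat.Prime 19) := ⟨by norm_num⟩
  obtain ⟨P⟩ : Nonempty (Sylow 19 H) := inferInstance
  -- `|P| = 19`
  have hPc : Nat.card P = 19 := by
    obtain ⟨k, hk⟩ := IsPGroup.iff_card.mp P.isPGroup'
    have h1 : 19 ^ k ∣ 459648 := by
      rw [← hk]; exact (Subgroup.card_subgroup_dvd_card (P : Subgroup H)).trans hH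
    have hk1 : k ≤ 1 := by
      by_contra hk2
      have h2 : 19 ^ 2 ∣ 19 ^ k := pow_dvd_pow 19 (by omega)
      have h3 := h2.trans h1
      norm_num at h3
    have hk0 : k ≠ 0 := by
      rintro rfl
      rw [pow_zero] at hk
      have hbot : (P : Subgroup H) = ⊥ := Subgroup.card_eq_one.mp hk
      have hnorm : (P : Subgroup H).Normal := hbot ▸ Subgroup.normal_bot
      have h2 : Nat.card (Sylow 19 H) = 1 := by
        have h0 := Sylow.card_eq_index_normalizer P
        have hnorm' : normalizer (P : Set H) = ⊤ := Subgroup.normalizer_eq_top_iff.mpr hnorm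
        rw [hnorm', Subgroup.index_top] at h0
        exact h0
      omega
    have : k = 1 := by omega
    rw [hk, this, pow_one]
  refine o459_syl_gen (p := 19) (by decide) P hPc 5 (by norm_num) (by rw [h96]) ?_ ?_ ?_ ?_
  · intro h u hh hu
    exact o459_no_fform h u hh hu
  · intro hd
    have h1 : 2 * Nat.card H ∣ 2 * 459648 := Nat.mul_dvd_mul_left 2 hH
    have h2 := hd.trans h1
    norm_num at h2
  · intro m hm
    have hm5 : m < 5 := by
      by_contra hge
      have : 2 ^ 5 ≤ 2 ^ m := Nat.pow_le_pow_right (by norm_num) (by omega)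
      omega
    interval_cases m <;> omega
  · intro q j hqprime hq19 hj hdvd hmod
    have h1 : q ^ j ∣ 459648 := hdvd.trans hH
    have h2 : q ^ j % 19 = 1 := by
      have := hmod
      unfold Nat.ModEq at this
      simpa using this
    have h3 := o459_dvd_ppow q j (q ^ j) hqprime hq19 h1 dvd_rfl h2
    have h4 : 1 < q ^ j := Nat.one_lt_pow hj.ne' hqprime.one_lt
    omega

end Cfsg.Agent.O459
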