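import Mathlib
import Cfsg.Prelude.Def_Characters
import Cfsg.Prelude.Def_Blocks
import Cfsg.Agent.BR.PmtValA

/-!
# S1022 (no simple group of order 459648), file F4: the value lemma (helper5)

`x` with `x ^ p = 1` (`p` an odd prime), `v` with `v ^ 2 = 1` commuting with `x`, `χ` a character with
`χ (x ^ j * v) = ε` for all `j` prime to `p`.  Then `χ v` is a rational integer `m` with
`m ≡ ε (mod p)` and `m ≡ χ 1 (mod 2)`.

Proof: `g := x * v` has `g ^ (2 p) = 1`; `χ (g ^ k) = ∑ μ i ^ k` with `μ i ^ (2 p) = 1` (`br_pmtv_eig`,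
`br_pmtv_all_one`); with `s i := μ i ^ p = ± 1`, `ζ i := μ i ^ (p + 1)` (`ζ i ^ p = 1`) and
`g ^ (j (p + 1) + p) = x ^ j * v` we get `χ (x ^ j * v) = ∑ s i * ζ i ^ j`; summing over `j < p` gives
`χ v + (p - 1) ε = p ∑_{ζ i = 1} s i`.

* `o459_val_main` : the lemma;
* `o459_val_abs` : `p = 19`, `χ 1` even, `ε = ± 1` ⇒ `18 ≤ |m|`;
* `o459_val_norm` : in the same situation `324 ≤ ‖χ v‖ ^ 2`.
-/

set_option autoImplicit false
set_option linter.style.haveILetI false
set_option linter.unusedSectionVars false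
set_option linter.unusedVariables false

namespace Cfsg.Agent.O459

open Cfsg Cfsg.Agent.Helper6 Cfsg.Agent.BR

universe u

/-- a complex number with square `1` is `± 1` -/
theorem o459_sq_one (s : ℂ) (h : s ^ 2 = 1) : s = 1 ∨ s = -1 := by
  have h1 : (s - 1) * (s + 1) = 0 := by linear_combination h
  rcases mul_eq_zero.mp h1 with h2 | h2
  · left; linear_combination h2
  · right; linear_combination h2

/-- the geometric sum of a `p`-th root of unity -/
theorem o459_geom (p : ℕ) (z : ℂ) (hz : z ^ p = 1) :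
    ∑ j ∈ Finset.range p, z ^ j = if z = 1 then (p : ℂ) else 0 := by
  by_cases h1 : z = 1
  · rw [if_pos h1, h1]
    simp
  · rw [if_neg h1, geom_sum_eq h1, hz, sub_self, zero_div]

/-- **the value lemma** -/
theorem o459_val_main {G : Type u} [Group G] [Finite G] {χ : G → ℂ} (hχ : IsCharacter G χ)
    (p : ℕ) [hp : Fact p.Prime] (hp2 : p ≠ 2) (x v : G) (hx : x ^ p = 1) (hv : v ^ 2 = 1)
    (hc : x * v = v * x) (ε : ℤ)
    (hval : ∀ j : ℕ, ¬ p ∣ j → χ (x ^ j * v) = (ε : ℂ)) :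
    ∃ m : ℤ, χ v = (m : ℂ) ∧ m ≡ ε [ZMOD (p : ℤ)] ∧ m ≡ (charDegree χ : ℤ) [ZMOD 2] := by
  classical
  have hpodd : Odd p := hp.out.odd_of_ne_two hp2
  obtain ⟨q, hq⟩ : ∃ q : ℕ, p + 1 = 2 * q := by
    obtain ⟨r, hr⟩ := hpodd
    exact ⟨r + 1, by omega⟩
  have hcomm : Commute x v := hc
  obtain ⟨ι, hι, μ, hμ, hpow⟩ := br_pmtv_eig hχ (x * v)
  -- `g ^ k = x ^ k * v ^ k`
  have hgk : ∀ k : ℕ, (x * v) ^ k = x ^ k * v ^ k := fun k => hcomm.mul_pow k
  -- `χ 1 = card ι`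
  have hχ1 : χ 1 = (Fintype.card ι : ℂ) := by
    have := hpow 0
    simpa using this
  -- `μ i ^ (2 p) = 1`
  have hg2p : (x * v) ^ (2 * p) = 1 := by
    rw [hgk, mul_comm 2 p, pow_mul x p 2, hx, one_pow, one_mul, mul_comm p 2, pow_mul v 2 p, hv,
      one_pow]
  have hμ2p : ∀ i, μ i ^ (2 * p) = 1 := by
    apply br_pmtv_all_one (fun i => μ i ^ (2 * p))
    · intro i
      rw [norm_pow, hμ i, one_pow]
    · rw [← hpow (2 * p), hg2p, hχ1]
  -- `s i = μ i ^ p = ± 1`, `ζ i = μ i ^ (p + 1)`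
  have hs : ∀ i, μ i ^ p = 1 ∨ μ i ^ p = -1 := by
    intro i
    apply o459_sq_one
    rw [← pow_mul, mul_comm p 2]
    exact hμ2p i
  have hζ : ∀ i, (μ i ^ (p + 1)) ^ p = 1 := by
    intro i
    rw [← pow_mul, hq, mul_assoc, mul_comm q p, ← mul_assoc, pow_mul, hμ2p i, one_pow]
  -- `v ^ k = v` for odd `k`
  have hvodd : ∀ k : ℕ, Odd k → v ^ k = v := by
    intro k hk
    obtain ⟨r, rfl⟩ := hk
    rw [pow_succ, pow_mul, hv, one_pow, one_mul]
  -- `g ^ (j (p + 1) + p) = x ^ j * v`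
  have hgj : ∀ j : ℕ, (x * v) ^ (j * (p + 1) + p) = x ^ j * v := by
    intro j
    rw [hgk]
    have h1 : x ^ (j * (p + 1) + p) = x ^ j := by
      have : j * (p + 1) + p = j + p * (j + 1) := by ring
      rw [this, pow_add, pow_mul, hx, one_pow, mul_one]
    have h2 : v ^ (j * (p + 1) + p) = v := by
      apply hvodd
      rw [hq]
      have : j * (2 * q) + p = 2 * (j * q) + p := by ring
      rw [this]
      exact (even_two_mul _).add_odd hpodd
    rw [h1, h2]
  have hform : ∀ j : ℕ, χ (x ^ j * v) = ∑ i, μ i ^ p * (μ i ^ (p + 1)) ^ j := by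
    intro j
    rw [← hgj j, hpow]
    apply Finset.sum_congr rfl
    intro i _
    rw [pow_add, ← pow_mul, mul_comm j (p + 1), mul_comm]
  -- integer versions
  let b : ι → ℤ := fun i => if μ i ^ p = 1 then 1 else -1
  have hb : ∀ i, ((b i : ℤ) : ℂ) = μ i ^ p := by
    intro i
    show (((if μ i ^ p = 1 then (1 : ℤ) else -1) : ℤ) : ℂ) = μ i ^ p
    rcases hs i with h1 | h1
    · rw [if_pos h1, h1]; simp
    · have hne : μ i ^ p ≠ 1 := by
        rw [h1]
        norm_num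
      rw [if_neg hne, h1]; simp
  let a : ι → ℤ := fun i => if μ i ^ (p + 1) = 1 then b i else 0
  refine ⟨∑ i, b i, ?_, ?_, ?_⟩
  · -- `χ v = ∑ s i`
    have h0 := hform 0
    rw [pow_zero, one_mul] at h0
    rw [h0, Int.cast_sum]
    apply Finset.sum_congr rfl
    intro i _
    rw [pow_zero, mul_one, hb i]
  · -- the congruence mod `p`
    have hsum1 : ∑ j ∈ Finset.range p, χ (x ^ j * v) = χ v + ((p : ℂ) - 1) * (ε : ℂ) := by
      have hp0 : 0 < p := hp.out.pos
      obtain ⟨n, hn⟩ : ∃ n, p = n + 1 := ⟨p - 1, by omega⟩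
      rw [hn, Finset.sum_range_succ']
      have h1 : ∀ j ∈ Finset.range n, χ (x ^ (j + 1) * v) = (ε : ℂ) := by
        intro j hj
        apply hval
        intro hdvd
        have := Nat.le_of_dvd (Nat.succ_pos j) hdvd
        have hj' := Finset.mem_range.mp hj
        omega
      rw [Finset.sum_congr rfl h1, Finset.sum_const, Finset.card_range, nsmul_eq_mul, pow_zero,
        one_mul]
      push_cast
      ring
    have hsum2 : ∑ j ∈ Finset.range p, χ (x ^ j * v) = (p : ℂ) * ((∑ i, a i : ℤ) : ℂ) := by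
      simp_rw [hform]
      rw [Finset.sum_comm]
      rw [Int.cast_sum, Finset.mul_sum]
      apply Finset.sum_congr rfl
      intro i _
      rw [← Finset.mul_sum, o459_geom p _ (hζ i)]
      show _ = (p : ℂ) * (((if μ i ^ (p + 1) = 1 then b i else 0 : ℤ)) : ℂ)
      by_cases h1 : μ i ^ (p + 1) = 1
      · rw [if_pos h1, if_pos h1, hb i]
        ring
      · rw [if_neg h1, if_neg h1]
        simp
    have hχv : χ v = ((∑ i, b i : ℤ) : ℂ) := by
      have h0 := hform 0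
      rw [pow_zero, one_mul] at h0
      rw [h0, Int.cast_sum]
      apply Finset.sum_congr rfl
      intro i _
      rw [pow_zero, mul_one, hb i]
    have heq : ((∑ i, b i : ℤ) : ℂ) + ((p : ℂ) - 1) * (ε : ℂ) = (p : ℂ) * ((∑ i, a i : ℤ) : ℂ) := by
      rw [← hχv, ← hsum1, hsum2]
    have heqZ : (∑ i, b i) + ((p : ℤ) - 1) * ε = (p : ℤ) * ∑ i, a i := by
      have : (((∑ i, b i) + ((p : ℤ) - 1) * ε : ℤ) : ℂ) = (((p : ℤ) * ∑ i, a i : ℤ) : ℂ) := by
        push_cast
        push_cast at heq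
        exact heq
      exact_mod_cast this
    rw [Int.modEq_iff_dvd]
    refine ⟨ε - ∑ i, a i, ?_⟩
    linear_combination -heqZ
  · -- parity
    have hdeg : (charDegree χ : ℤ) = ∑ i : ι, (1 : ℤ) := by
      have h1 : charDegree χ = Fintype.card ι := by
        unfold charDegree
        rw [hχ1]
        simp
      rw [h1]
      simp
    rw [hdeg, Int.modEq_iff_dvd, ← Finset.sum_sub_distrib]
    apply Finset.dvd_sum
    intro i _
    show (2 : ℤ) ∣ 1 - (if μ i ^ p = 1 then (1 : ℤ) else -1)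
    by_cases h1 : μ i ^ p = 1
    · rw [if_pos h1]; norm_num
    · rw [if_neg h1]; norm_num

/-- `p = 19`: an even integer `≡ ± 1 (mod 19)` has absolute value at least `18` -/
theorem o459_val_arith (m ε : ℤ) (hε : ε = 1 ∨ ε = -1) (h19 : m ≡ ε [ZMOD 19])
    (h2 : m ≡ 0 [ZMOD 2]) : 18 ≤ |m| := by
  rw [Int.modEq_iff_dvd] at h19 h2
  obtain ⟨c, hc⟩ := h19
  obtain ⟨d, hd⟩ := h2
  rcases hε with h | h <;> rw [h] at hc <;>
  · rcases le_or_gt 0 m with hm | hm
    · rw [abs_of_nonneg hm]; omega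
    · rw [abs_of_neg hm]; omega

/-- the value lemma at `p = 19` for a character of even degree: `|χ v| ≥ 18` -/
theorem o459_val_abs {G : Type u} [Group G] [Finite G] {χ : G → ℂ} (hχ : IsCharacter G χ)
    (x v : G) (hx : x ^ 19 = 1) (hv : v ^ 2 = 1) (hc : x * v = v * x) (ε : ℤ)
    (hε : ε = 1 ∨ ε = -1) (heven : Even (charDegree χ))
    (hval : ∀ j : ℕ, ¬ 19 ∣ j → χ (x ^ j * v) = (ε : ℂ)) :
    ∃ m : ℤ, χ v = (m : ℂ) ∧ 18 ≤ |m| := by
  haveI : Fact (Nat.Prime 19) := ⟨by norm_num⟩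
  obtain ⟨m, hm, h19, h2⟩ := o459_val_main hχ 19 (by norm_num) x v hx hv hc ε hval
  refine ⟨m, hm, o459_val_arith m ε hε (by exact_mod_cast h19) ?_⟩
  obtain ⟨r, hr⟩ := heven
  refine h2.trans ?_
  rw [Int.modEq_iff_dvd]
  exact ⟨-r, by rw [hr]; push_cast; ring⟩

/-- the value lemma at `p = 19` for a character of even degree: `‖χ v‖² ≥ 324` -/
theorem o459_val_norm {G : Type u} [Group G] [Finite G] {χ : G → ℂ} (hχ : IsCharacter G χ)
    (x v : G) (hx : x ^ 19 = 1) (hv : v ^ 2 = 1) (hc : x * v = v * x) (ε : ℤ)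
    (hε : ε = 1 ∨ ε = -1) (heven : Even (charDegree χ))
    (hval : ∀ j : ℕ, ¬ 19 ∣ j → χ (x ^ j * v) = (ε : ℂ)) :
    (324 : ℝ) ≤ ‖χ v‖ ^ 2 := by
  obtain ⟨m, hm, h18⟩ := o459_val_abs hχ x v hx hv hc ε hε heven hval
  rw [hm, Complex.norm_intCast]
  have h1 : (18 : ℝ) ≤ |(m : ℝ)| := by exact_mod_cast h18
  nlinarith [abs_nonneg (m : ℝ)]

end Cfsg.Agent.O459
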